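import Cfsg.Agent.Lib.Fi22Syl.Checks
import Cfsg.Agent.Lib.Fi23Syl.Main
import Cfsg.Agent.Lib.M23.Fi23Facts

/-!
A Sylow 2-subgroup of Fi22 has one elementary abelian subgroup of order 2^10, generated by transpositions,
and none larger.
-/

set_option autoImplicit false
set_option linter.unusedSectionVars false

namespace CfsgLib.Fi22Syl

open CfsgLib.CosetEnum CfsgLib.Fi23Syl Cfsg.Spor
open CfsgLib.Fi23Pres (gen subA zKer zSub coverZ)
open CfsgLib.M23 (toFi22 toFi22_surjective)

theorem qc_inj {i j : ℕ} (hi : i < 35) (hj : j < 35) (h : qc i = qc j) : i = j := by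
  rw [qc, qc, nth_eq, nth_eq, List.getD_eq_getElem _ _ (by rw [qCand_len]; exact hi),
    List.getD_eq_getElem _ _ (by rw [qCand_len]; exact hj)] at h
  exact (List.Nodup.getElem_inj_iff (noDup_nodup qCand_nodup)).mp h

theorem actUp_z : ∀ {n : ℕ}, n ≤ 7 → ∀ e, actUp n e zVec = zVec
  | 0, _, _ => rfl
  | n + 1, hn, e => by
    rw [actUp]
    cases e.testBit n
    · exact actUp_z (by omega) e
    · rw [cond_true, Nat.eq_of_beq_eq_true (allBelow_spec z_fixed n (by omega))]
      exact actUp_z (by omega) e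

theorem aG_z : aG zVec = coverZ := by
  rw [← prodW_aW]
  exact same_eq z_word

section bound

/-- `x` is the trivial element or the fixed transposition -/
def InZ (x : Fi23) : Prop := ∃ w, (w = 0 ∨ w = zVec) ∧ x = aG w

variable {B : Subgroup Fi23} (hle : B ≤ sylowSub) (hc : ∀ x ∈ B, ∀ y ∈ B, InZ (x * y * (y * x)⁻¹))
  (hs : ∀ x ∈ B, InZ (x * x))

include hs

theorem residue_invol {v e : ℕ} (hx : aG v * rG e ∈ B) {u : ℕ} (hu : u < 2048) : act e (act e u) = u := by
  obtain ⟨w, -, hw⟩ := hs _ hx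
  refine aG_inj (act_lt e (act_lt e hu)) hu ?_
  rw [← elt_conj v e (act e u), ← elt_conj v e u]
  generalize aG v * rG e = x at hx hw
  rw [show x * (x * aG u * x⁻¹) * x⁻¹ = (x * x) * aG u * (x * x)⁻¹ by group, hw, aG_comm, mul_inv_cancel_right]

omit hs
include hc

theorem residue_comm {v e v' f : ℕ} (hx : aG v * rG e ∈ B) (hy : aG v' * rG f ∈ B) {u : ℕ} (hu : u < 2048) :
    act e (act f u) = act f (act e u) := by
  obtain ⟨w, -, hw⟩ := hc _ hx _ hy
  refine aG_inj (act_lt e (act_lt f hu)) (act_lt f (act_lt e hu)) ?_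
  have key : aG v' * rG f * (aG v * rG e * aG u * (aG v * rG e)⁻¹) * (aG v' * rG f)⁻¹ = aG (act f (act e u)) := by
    rw [elt_conj, elt_conj]
  rw [← elt_conj v e (act f u), ← elt_conj v' f u, ← key]
  generalize aG v * rG e = x at hx hw key ⊢
  generalize aG v' * rG f = y at hy hw key ⊢
  have hxy : x * y = aG w * (y * x) := by rw [← hw, inv_mul_cancel_right]
  rw [show x * (y * aG u * y⁻¹) * x⁻¹ = (x * y) * aG u * (x * y)⁻¹ by group, hxy,
    show aG w * (y * x) * aG u * (aG w * (y * x))⁻¹ = aG w * (y * (x * aG u * x⁻¹) * y⁻¹) * (aG w)⁻¹ by group,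
    key, aG_comm, mul_inv_cancel_right]

theorem residue_disp {v e u : ℕ} (hx : aG v * rG e ∈ B) (hu : aG u ∈ B) (hu' : u < 2048) :
    disp e u = 0 ∨ disp e u = zVec := by
  obtain ⟨w, hw0, hw⟩ := hc _ hx _ hu
  have hw2 : w < 2048 := by rcases hw0 with rfl | rfl <;> decide
  have h : act e u = w ^^^ u := by
    refine aG_inj (act_lt e hu') (Nat.xor_lt_two_pow (n := 11) hw2 hu') ?_
    rw [← elt_conj v e u, aG_xor, ← hw]
    group
  rw [show disp e u = w by rw [disp, h, Nat.xor_assoc, Nat.xor_self, Nat.xor_zero]]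
  exact hw0

include hle hs

theorem card_le_and_eq : Nat.card B ≤ 2048 ∧ (Nat.card B = 2048 → B = baseSub) := by
  classical
  obtain ⟨S, hS⟩ : ∃ S : Finset (ℕ × ℕ),
      ∀ p : ℕ × ℕ, p ∈ S ↔ (p.1 < 2048 ∧ p.2 < 128) ∧ aG p.1 * rG p.2 ∈ B :=
    ⟨(Finset.range 2048 ×ˢ Finset.range 128).filter fun p => aG p.1 * rG p.2 ∈ B, fun p => by
      rw [Finset.mem_filter, Finset.mem_product, Finset.mem_range, Finset.mem_range]⟩
  have hcard : Nat.card B = S.card := by
    let f : S → B := fun p => ⟨aG p.1.1 * rG p.1.2, ((hS p.1).mp p.2).2⟩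
    have hf : Function.Bijective f := by
      refine ⟨fun p q h => ?_, ?_⟩
      · obtain ⟨⟨p1, p2⟩, -⟩ := (hS p.1).mp p.2
        obtain ⟨⟨q1, q2⟩, -⟩ := (hS q.1).mp q.2
        obtain ⟨h1, h2⟩ := elt_inj p1 p2 q1 q2 (congrArg Subtype.val h)
        exact Subtype.ext (Prod.ext h1 h2)
      · rintro ⟨x, hx⟩
        obtain ⟨v, hv, e, he, rfl⟩ := mem_sylowSub.mp (hle hx)
        exact ⟨⟨(v, e), (hS _).mpr ⟨⟨hv, he⟩, hx⟩⟩, rfl⟩
    rw [← Nat.card_eq_of_bijective f hf, Nat.card_eq_fintype_card, Fintype.card_coe]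
  let E := S.image Prod.snd
  obtain ⟨V, hVmem⟩ : ∃ V : Finset ℕ, ∀ u, u ∈ V ↔ u < 2048 ∧ aG u ∈ B :=
    ⟨(Finset.range 2048).filter fun u => aG u ∈ B, fun u => by rw [Finset.mem_filter, Finset.mem_range]⟩
  have hfib : ∀ e ∈ E, (S.filter fun p => p.2 = e).card ≤ V.card := by
    intro e he
    obtain ⟨p₀, hp₀, rfl⟩ := Finset.mem_image.mp he
    obtain ⟨⟨h01, -⟩, h0⟩ := (hS p₀).mp hp₀
    refine Finset.card_le_card_of_injOn (fun p => p.1 ^^^ p₀.1) (fun p hp => ?_) ?_
    · obtain ⟨hp, hp2⟩ := Finset.mem_filter.mp hp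
      obtain ⟨⟨h1, -⟩, h⟩ := (hS p).mp hp
      refine (hVmem _).mpr ⟨Nat.xor_lt_two_pow (n := 11) h1 h01, ?_⟩
      rw [hp2] at h
      rw [aG_xor, ← mul_one (aG p.1), ← mul_inv_cancel (rG p₀.2), ← mul_assoc, mul_assoc _ _ (aG p₀.1)]
      have : (rG p₀.2)⁻¹ * aG p₀.1 = (aG p₀.1 * rG p₀.2)⁻¹ := by rw [mul_inv_rev, aG_inv]
      rw [this]
      exact B.mul_mem h (B.inv_mem h0)
    · intro p hp q hq h
      refine Prod.ext ?_ ((Finset.mem_filter.mp hp).2.trans (Finset.mem_filter.mp hq).2.symm)
      simpa using h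
  have hSle : S.card ≤ V.card * E.card := Finset.card_le_mul_card_image S V.card hfib
  have hVdvd : V.card ∣ 2 ^ 11 := by
    have h := Subgroup.card_dvd_of_le (inf_le_right : B ⊓ baseSub ≤ baseSub)
    let f : V → (B ⊓ baseSub : Subgroup Fi23) := fun u =>
      ⟨aG u.1, ((hVmem u.1).mp u.2).2, u.1, ((hVmem u.1).mp u.2).1, rfl⟩
    have hf : Function.Bijective f := by
      refine ⟨fun u w h => Subtype.ext (aG_inj ((hVmem u.1).mp u.2).1 ((hVmem w.1).mp w.2).1
        (congrArg Subtype.val h)), ?_⟩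
      rintro ⟨x, hx, v, hv, rfl⟩
      exact ⟨⟨v, (hVmem v).mpr ⟨hv, hx⟩⟩, rfl⟩
    rw [← Nat.card_eq_of_bijective f hf, Nat.card_eq_fintype_card, Fintype.card_coe, baseSub_card] at h
    exact h
  have hmem : ∀ e ∈ E, ∃ v, e < 128 ∧ aG v * rG e ∈ B := by
    intro e he
    obtain ⟨p, hp, rfl⟩ := Finset.mem_image.mp he
    exact ⟨p.1, ((hS p).mp hp).1.2, ((hS p).mp hp).2⟩
  have hEc : ∀ e ∈ E, e = 0 ∨ ∃ i < 35, qc i = e := by
    intro e he
    obtain ⟨v, he', hx⟩ := hmem e he
    have h := allBelow_spec qKind_ok e he'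
    unfold qKindOK at h
    split at h
    · next u _ =>
      simp only [Bool.and_eq_true, Nat.blt_eq, Bool.not_eq_true'] at h
      exact absurd (residue_invol hs hx h.1) (Nat.ne_of_beq_eq_false h.2)
    · next i _ =>
      simp only [Bool.and_eq_true, Nat.blt_eq] at h
      exact Or.inr ⟨i, h.1, Nat.eq_of_beq_eq_true h.2⟩
    · exact Or.inl (Nat.eq_of_beq_eq_true h)
    · simp at h
  -- at most thirty of the involutory residues occur
  have hE31 : E.card ≤ 31 := by
    let ch : ℕ × ℕ × ℕ → ℕ := fun p => if qc p.1 ∈ E then p.2.1 else p.1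
    have hout : ∀ p ∈ qPairs, ch p < 35 ∧ qc (ch p) ∉ E := by
      intro p hp
      have h := List.all_eq_true.mp qPair_ok p hp
      simp only [qPairOK, Bool.and_eq_true, Nat.blt_eq, Bool.not_eq_true'] at h
      obtain ⟨⟨⟨h1, h2⟩, h3⟩, h4⟩ := h
      by_cases hin : qc p.1 ∈ E
      · simp only [ch, if_pos hin]
        refine ⟨h2, fun hin' => Nat.ne_of_beq_eq_false h4 ?_⟩
        obtain ⟨v, -, hx⟩ := hmem _ hin
        obtain ⟨v', -, hy⟩ := hmem _ hin'
        exact residue_comm hc hx hy h3
      · simp only [ch, if_neg hin]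
        exact ⟨h1, hin⟩
    have hsub : ∀ ps : List (ℕ × ℕ × ℕ), (ps.map ch).Sublist (ps.flatMap fun p => [p.1, p.2.1]) := by
      intro ps
      induction ps with
      | nil => exact List.Sublist.refl _
      | cons p ps ih =>
        rw [List.map_cons, List.flatMap_cons, ← List.singleton_append]
        refine List.Sublist.append ?_ ih
        by_cases hin : qc p.1 ∈ E
        · simp [ch, if_pos hin]
        · simp [ch, if_neg hin]
    have hnd := qPair_disjoint.1.sublist (hsub qPairs)
    obtain ⟨I, hI⟩ : ∃ I : Finset ℕ, I = Finset.range 35 \ (qPairs.map ch).toFinset := ⟨_, rfl⟩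
    have hI30 : I.card = 30 := by
      rw [hI, Finset.card_sdiff_of_subset, List.toFinset_card_of_nodup hnd, List.length_map, qPair_disjoint.2,
        Finset.card_range]
      intro i hi
      obtain ⟨p, hp, rfl⟩ := List.mem_map.mp (List.mem_toFinset.mp hi)
      exact Finset.mem_range.mpr (hout p hp).1
    have hEsub : E ⊆ insert 0 (I.image qc) := by
      intro e he
      rcases hEc e he with rfl | ⟨i, hi, rfl⟩
      · exact Finset.mem_insert_self ..
      · refine Finset.mem_insert_of_mem (Finset.mem_image_of_mem _ ?_)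
        rw [hI, Finset.mem_sdiff, Finset.mem_range, List.mem_toFinset]
        refine ⟨hi, fun h => ?_⟩
        obtain ⟨p, hp, e⟩ := List.mem_map.mp h
        exact (hout p hp).2 (e ▸ he)
    refine (Finset.card_le_card hEsub).trans ((Finset.card_insert_le ..).trans ?_)
    exact Nat.succ_le_succ (Finset.card_image_le.trans hI30.le)
  have hdisp : ∀ e ∈ E, ∀ u ∈ V, disp e u = 0 ∨ disp e u = zVec := by
    intro e he u hu
    obtain ⟨v, -, hx⟩ := hmem e he
    exact residue_disp hc hx ((hVmem u).mp hu).2 ((hVmem u).mp hu).1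
  by_cases hE : ∀ e ∈ E, e = 0
  · have hBA : B ≤ baseSub := by
      intro x hx
      obtain ⟨v, hv, e, he, rfl⟩ := mem_sylowSub.mp (hle hx)
      obtain rfl := hE e (Finset.mem_image.mpr ⟨(v, e), (hS _).mpr ⟨⟨hv, he⟩, hx⟩, rfl⟩)
      exact ⟨v, hv, by rw [rG_zero, mul_one]⟩
    have h := Subgroup.card_le_of_le hBA
    rw [baseSub_card] at h
    exact ⟨h, fun hB => Subgroup.eq_of_le_of_card_ge hBA (by rw [baseSub_card, hB])⟩
  · have hsmall : Nat.card B < 2048 := by
      rw [hcard]
      push Not at hE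
      obtain ⟨e, he, he0⟩ := hE
      obtain ⟨i, hi, rfl⟩ := (hEc e he).resolve_left he0
      obtain ⟨F, hFmem⟩ : ∃ F : Finset ℕ, ∀ u, u ∈ F ↔ u < 2048 ∧ (disp (qc i) u = 0 ∨ disp (qc i) u = zVec) :=
        ⟨(Finset.range 2048).filter fun u => disp (qc i) u = 0 ∨ disp (qc i) u = zVec, fun u => by
          rw [Finset.mem_filter, Finset.mem_range]⟩
      have hVF : V ⊆ F := fun u hu => (hFmem u).mpr ⟨((hVmem u).mp hu).1, hdisp _ he u hu⟩
      have hF : F.card ≤ 128 := by
        have hu4 : ∀ k < 4, nth (nthWord qFour i) k 0 < 2 ^ 11 := fun k hk => by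
          have h := allBelow_spec (allBelow_spec qFour_lt i hi) k hk
          simpa using h
        have hinj : (F ×ˢ Finset.range 16).card ≤ (Finset.range 2048).card := by
          refine Finset.card_le_card_of_injOn (fun p => p.1 ^^^ comb (nthWord qFour i) p.2) (fun p hp => ?_) ?_
          · rw [Finset.mem_coe, Finset.mem_product, hFmem, Finset.mem_range] at hp
            exact Finset.mem_coe.mpr (Finset.mem_range.mpr
              (Nat.xor_lt_two_pow (n := 11) hp.1.1 (sUp_lt hu4 p.2)))
          · intro p hp q hq h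
            rw [Finset.mem_coe, Finset.mem_product, hFmem, Finset.mem_range] at hp hq
            have hd := congrArg (disp (qc i)) h
            simp only [disp_xor] at hd
            have hne : ∀ c < 16, ∀ d < c, ∀ a b, (a = 0 ∨ a = zVec) → (b = 0 ∨ b = zVec) →
                a ^^^ disp (qc i) (comb (nthWord qFour i) c) ≠ b ^^^ disp (qc i) (comb (nthWord qFour i) d) := by
              intro c hc' d hd' a b ha hb e
              have h4 := allBelow_spec (allBelow_spec (allBelow_spec qFour_ok i hi) c hc') d hd'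
              simp only [Bool.and_eq_true, Bool.not_eq_true'] at h4
              obtain ⟨n0, n1⟩ := h4
              replace n0 := Nat.ne_of_beq_eq_false n0
              replace n1 := Nat.ne_of_beq_eq_false n1
              generalize disp (qc i) (comb (nthWord qFour i) c) = X at *
              generalize disp (qc i) (comb (nthWord qFour i) d) = Y at *
              rcases ha with rfl | rfl <;> rcases hb with rfl | rfl
              · exact n0 (by simpa using e)
              · refine n1 ?_
                rw [Nat.zero_xor] at e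
                rw [e, Nat.xor_assoc, Nat.xor_self, Nat.xor_zero]
              · refine n1 ?_
                rw [Nat.zero_xor] at e
                rw [← e, Nat.xor_comm zVec, ← Nat.xor_assoc, Nat.xor_self, Nat.zero_xor]
              · exact n0 (Nat.xor_right_injective e)
            have hcd : p.2 = q.2 := by
              rcases Nat.lt_trichotomy p.2 q.2 with hl | hl | hl
              · exact absurd hd.symm (hne _ hq.2 _ hl _ _ hq.1.2 hp.1.2)
              · exact hl
              · exact absurd hd (hne _ hp.2 _ hl _ _ hp.1.2 hq.1.2)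
            refine Prod.ext ?_ hcd
            simpa [hcd] using h
        rw [Finset.card_product, Finset.card_range, Finset.card_range] at hinj
        omega
      by_cases hE2 : ∀ f ∈ E, f = 0 ∨ f = qc i
      · have h2 : E.card ≤ 2 := by
          refine (Finset.card_le_card (fun f hf => ?_)).trans (Finset.card_le_two (a := 0) (b := qc i))
          simpa using hE2 f hf
        calc S.card ≤ V.card * E.card := hSle
          _ ≤ 128 * 2 := Nat.mul_le_mul ((Finset.card_le_card hVF).trans hF) h2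
          _ < 2048 := by norm_num
      · push Not at hE2
        obtain ⟨f, hf, hf0, hfe⟩ := hE2
        obtain ⟨j, hj, rfl⟩ := (hEc f hf).resolve_left hf0
        have hsep := allBelow_spec (allBelow_spec qSep_ok i hi) j hj
        simp only [qSepOK, Bool.or_eq_true, Bool.and_eq_true, Nat.blt_eq, Bool.not_eq_true'] at hsep
        rcases hsep with h | ⟨⟨⟨hu, hfu⟩, hm0⟩, hmz⟩
        · exact absurd (congrArg qc (Nat.eq_of_beq_eq_true h)).symm hfe
        have hlt : V.card < F.card := by
          refine Finset.card_lt_card ((Finset.ssubset_iff_of_subset hVF).mpr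
            ⟨nth (nthWord qSep i) j 0, ?_, fun hV => ?_⟩)
          · exact (hFmem _).mpr ⟨hu, hfu.imp Nat.eq_of_beq_eq_true Nat.eq_of_beq_eq_true⟩
          · exact (hdisp _ hf _ hV).elim (Nat.ne_of_beq_eq_false hm0) (Nat.ne_of_beq_eq_false hmz)
        obtain ⟨k, -, hk⟩ := (Nat.dvd_prime_pow Nat.prime_two).mp hVdvd
        have hk6 : k ≤ 6 := by
          by_contra hk'
          have : 2 ^ 7 ≤ 2 ^ k := Nat.pow_le_pow_right (by norm_num) (by omega)
          omega
        calc S.card ≤ V.card * E.card := hSle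
          _ ≤ 64 * 31 := Nat.mul_le_mul (hk ▸ Nat.pow_le_pow_right (by norm_num) hk6) hE31
          _ < 2048 := by norm_num
    exact ⟨hsmall.le, fun h => absurd h hsmall.ne⟩

end bound

end CfsgLib.Fi22Syl
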