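import Cfsg.Prelude.Def_Transfer
import Cfsg.Prelude.Def_SporadicB
import Cfsg.Agent.Lib.Fi22Syl.Main
import Cfsg.Agent.Lib.Fi22USix.TransClass

/-!
The transpositions in a Sylow 2-subgroup of Fi22 generate its Thompson subgroup.
-/

set_option autoImplicit false
set_option linter.unusedSectionVars false

namespace CfsgLib.Fi22Syl

open CfsgLib.CosetEnum CfsgLib.Fi23Syl Cfsg.Spor
open CfsgLib.Fi23Pres (gen subA zKer zSub coverZ)
open CfsgLib.M23 (toFi22 toFi22_surjective)

theorem toFi22_ker : toFi22.ker = zKer := by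
  ext x; simp [CfsgLib.M23.toFi22, MonoidHom.mem_ker]

theorem zKer_cases {x : subA} (h : x ∈ zKer) : x = 1 ∨ x = zSub := by
  obtain ⟨k, hk⟩ := h
  have hs : zSub ^ (2 : ℤ) = 1 := by
    have := pow_orderOf_eq_one zSub
    rw [Fi23Pres.zSub_order] at this
    exact_mod_cast this
  replace hk : zSub ^ k = x := hk
  rcases Int.even_or_odd' k with ⟨m, rfl | rfl⟩
  · left; rw [← hk, zpow_mul, hs, one_zpow]
  · right; rw [← hk, zpow_add, zpow_mul, hs, one_zpow, one_mul, zpow_one]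

theorem ker_card : Nat.card toFi22.ker = 2 := by
  rw [toFi22_ker, Fi23Pres.zKer, Nat.card_zpowers, Fi23Pres.zSub_order]

theorem sylowSub_le : sylowSub ≤ subA := by
  intro x hx
  rw [← Fi23Pres.centralizer_central, show CfsgLib.Fi23Pres.central = coverZ from rfl, ← aG_z]
  obtain ⟨v, -, e, -, rfl⟩ := mem_sylowSub.mp hx
  rw [Subgroup.mem_centralizer_singleton_iff]
  have h := elt_conj v e zVec
  rw [show act e zVec = zVec from actUp_z le_rfl e] at h
  exact mul_inv_eq_iff_eq_mul.mp h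

theorem inZ_of_ker {x : subA} (h : x ∈ toFi22.ker) : InZ (x : Fi23) := by
  rcases zKer_cases (toFi22_ker ▸ h) with rfl | rfl
  · exact ⟨0, Or.inl rfl, aG_zero.symm⟩
  · exact ⟨zVec, Or.inr rfl, by rw [aG_z]; rfl⟩

theorem zSub_base : (zSub : Fi23) ∈ baseSub :=
  mem_baseSub.mpr ⟨zVec, by decide, aG_z.symm⟩

/-- the image in Fi22 of a subgroup of Fi23 -/
noncomputable def img (H : Subgroup Fi23) : Subgroup Fi22 := (H.subgroupOf subA).map toFi22

theorem img_card {H : Subgroup Fi23} (hH : H ≤ subA) (hz : (zSub : Fi23) ∈ H) :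
    Nat.card H = 2 * Nat.card (img H) := by
  let H' := H.subgroupOf subA
  let f : H' →* Fi22 := toFi22.comp H'.subtype
  have hr : f.range = img H := by rw [MonoidHom.range_comp, Subgroup.range_subtype]; rfl
  have hk : toFi22.ker ≤ H' := fun x hx => by
    rcases zKer_cases (toFi22_ker ▸ hx) with rfl | rfl
    · exact one_mem _
    · exact Subgroup.mem_subgroupOf.mpr hz
  have hk2 : Nat.card f.ker = 2 := by
    rw [← ker_card]
    exact Nat.card_congr
      { toFun := fun x => ⟨(x : H'), x.2⟩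
        invFun := fun x => ⟨⟨x.1, hk x.2⟩, x.2⟩
        left_inv := fun _ => rfl
        right_inv := fun _ => rfl }
  have h := Subgroup.card_eq_card_quotient_mul_card_subgroup f.ker
  rw [hk2, Nat.card_congr (QuotientGroup.quotientKerEquivRange f).toEquiv, hr,
    Nat.card_congr (Subgroup.subgroupOfEquivOfLe hH).toEquiv] at h
  rw [h, mul_comm]

theorem baseSub_le_subA : baseSub ≤ subA := baseSub_le.trans sylowSub_le

theorem img_sylow_card : Nat.card (img sylowSub) = 2 ^ 17 := by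
  have h := img_card sylowSub_le (baseSub_le zSub_base)
  rw [sylowSub_card] at h
  omega

theorem img_base_card : Nat.card (img baseSub) = 1024 := by
  have h := img_card baseSub_le_subA zSub_base
  rw [baseSub_card] at h
  omega

/-- a Sylow 2-subgroup of Fi22 -/
noncomputable def sylowTwo22 : Sylow 2 Fi22 :=
  (IsPGroup.of_card (n := 17) img_sylow_card).toSylow (by
    have h := Subgroup.card_mul_index (img sylowSub)
    rw [img_sylow_card, Fi22Pres.card_faithful.1] at h
    omega)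

theorem img_base_le : img baseSub ≤ img sylowSub :=
  Subgroup.map_mono (Subgroup.comap_mono baseSub_le)

theorem img_base_elem : Cfsg.IsElementaryAbelian 2 (img baseSub) := by
  refine ⟨⟨⟨?_⟩⟩, ?_⟩
  · rintro ⟨x, hx⟩ ⟨y, hy⟩
    obtain ⟨a, ha, rfl⟩ := Subgroup.mem_map.mp hx
    obtain ⟨b, hb, rfl⟩ := Subgroup.mem_map.mp hy
    obtain ⟨u, -, eu⟩ := mem_baseSub.mp (Subgroup.mem_subgroupOf.mp ha)
    obtain ⟨w, -, ew⟩ := mem_baseSub.mp (Subgroup.mem_subgroupOf.mp hb)
    refine Subtype.ext ?_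
    show toFi22 a * toFi22 b = toFi22 b * toFi22 a
    rw [← map_mul, ← map_mul]
    exact congrArg toFi22 (Subtype.ext (by
      show (a : Fi23) * (b : Fi23) = (b : Fi23) * (a : Fi23)
      rw [eu, ew, aG_comm]))
  · intro x hx
    obtain ⟨a, ha, rfl⟩ := Subgroup.mem_map.mp hx
    obtain ⟨u, -, eu⟩ := mem_baseSub.mp (Subgroup.mem_subgroupOf.mp ha)
    rw [pow_two, ← map_mul, show a * a = 1 from Subtype.ext (by
      show (a : Fi23) * (a : Fi23) = 1
      rw [eu, aG_self]), map_one]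

theorem img_elem_le {A : Subgroup Fi22} (hA : A ≤ img sylowSub) (hE : Cfsg.IsElementaryAbelian 2 A) :
    Nat.card A ≤ 1024 ∧ (Nat.card A = 1024 → A = img baseSub) := by
  let B : Subgroup Fi23 := (A.comap toFi22).map subA.subtype
  have hmem : ∀ x : subA, (x : Fi23) ∈ B ↔ toFi22 x ∈ A := fun x => by
    rw [show (x : Fi23) = subA.subtype x from rfl, Subgroup.mem_map_iff_mem subA.subtype_injective]
    rfl
  have hBle : B ≤ subA := Subgroup.map_subtype_le _
  have hBs : B ≤ sylowSub := by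
    intro x hx
    obtain ⟨a, ha, rfl⟩ := Subgroup.mem_map.mp hx
    obtain ⟨t, ht, e⟩ := Subgroup.mem_map.mp (hA ha)
    have hk : t⁻¹ * a ∈ toFi22.ker := by rw [MonoidHom.mem_ker, map_mul, map_inv, e, inv_mul_cancel]
    have ht' : (t : Fi23) ∈ sylowSub := ht
    have hk' : ((t⁻¹ * a : subA) : Fi23) ∈ sylowSub := by
      rcases zKer_cases (toFi22_ker ▸ hk) with h | h <;> rw [h]
      · exact one_mem _
      · exact baseSub_le zSub_base
    have := mul_mem ht' hk'
    rwa [← Subgroup.coe_mul, mul_inv_cancel_left] at this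
  have hc : ∀ x ∈ B, ∀ y ∈ B, InZ (x * y * (y * x)⁻¹) := by
    intro x hx y hy
    have h := inZ_of_ker (x := ⟨x, hBle hx⟩ * ⟨y, hBle hy⟩ * (⟨y, hBle hy⟩ * ⟨x, hBle hx⟩)⁻¹) (by
      rw [MonoidHom.mem_ker, map_mul, map_mul, map_inv, map_mul, mul_inv_eq_one]
      exact congrArg Subtype.val (hE.1.is_comm.comm (⟨_, (hmem ⟨x, hBle hx⟩).mp hx⟩ : A)
        ⟨_, (hmem ⟨y, hBle hy⟩).mp hy⟩))
    exact h
  have hs : ∀ x ∈ B, InZ (x * x) := by
    intro x hx
    exact inZ_of_ker (x := ⟨x, hBle hx⟩ * ⟨x, hBle hx⟩) (by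
      rw [MonoidHom.mem_ker, map_mul, ← pow_two]
      exact hE.2 _ ((hmem ⟨x, hBle hx⟩).mp hx))
  have hz : (zSub : Fi23) ∈ B := (hmem zSub).mpr (by
    rw [show toFi22 zSub = 1 from MonoidHom.mem_ker.mp (by rw [toFi22_ker]; exact Subgroup.mem_zpowers _)]
    exact one_mem _)
  have himg : img B = A := by
    unfold img
    rw [show B.subgroupOf subA = A.comap toFi22 from Subgroup.ext fun x => hmem x]
    exact Subgroup.map_comap_eq_self_of_surjective toFi22_surjective A
  obtain ⟨h1, h2⟩ := card_le_and_eq hBs hc hs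
  have hcard := img_card hBle hz
  rw [himg] at hcard
  exact ⟨by omega, fun h => by rw [← himg, h2 (by omega)]⟩

theorem bG_class {k : ℕ} (hk : k < 11) : bG k ∈ Fi23Pres.transClass ∧ bG k ≠ coverZ := by
  have h := allBelow_spec basis_mid k hk
  simp only [midOK, Bool.and_eq_true, decide_eq_true_eq, Bool.not_eq_true', Nat.blt_eq] at h
  obtain ⟨⟨hw, hm⟩, hne⟩ := h
  refine ⟨?_, fun e => Nat.ne_of_beq_eq_false hne ?_⟩
  · rw [bG, hw, prodW_append, prodW_cons, CfsgLib.M23.prodW_reverse Fi23Pres.gen_sq, ← mul_assoc]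
    exact CfsgLib.M23.class_conj (CfsgLib.M23.gen23_class _ hm)
  · refine aG_inj (Nat.pow_lt_pow_right (by norm_num) hk) (by decide) ?_
    rw [aG_z, ← e]
    exact pUp_two_pow bG hk

theorem base_le_closure :
    img baseSub ≤ Subgroup.closure {x : Fi22 | x ∈ Fi22USix.transClass ∧ x ∈ img sylowSub} := by
  intro x hx
  obtain ⟨a, ha, rfl⟩ := Subgroup.mem_map.mp hx
  let P : Subgroup Fi23 := ((Subgroup.closure
    {x : Fi22 | x ∈ Fi22USix.transClass ∧ x ∈ img sylowSub}).comap toFi22).map subA.subtype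
  suffices h : (a : Fi23) ∈ P by
    obtain ⟨b, hb, e⟩ := Subgroup.mem_map.mp h
    rwa [← subA.subtype_injective e]
  obtain ⟨v, -, e⟩ := mem_baseSub.mp (Subgroup.mem_subgroupOf.mp ha)
  rw [e]
  refine pUp_mem (fun k hk => ?_) v
  obtain ⟨hcl, hne⟩ := bG_class hk
  have hb : bG k ∈ baseSub :=
    mem_baseSub.mpr ⟨2 ^ k, Nat.pow_lt_pow_right (n := 11) (by norm_num) hk, (pUp_two_pow bG hk).symm⟩
  have hperp : bG k ∈ CfsgLib.M23.perp Fi23Pres.transClass coverZ := by
    refine ⟨hcl, hne, ?_⟩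
    obtain ⟨w, -, hw⟩ := mem_baseSub.mp hb
    rw [← aG_z, hw]
    exact aG_comm _ _
  exact Subgroup.mem_map.mpr ⟨⟨bG k, CfsgLib.M23.perp_mem hperp⟩,
    Subgroup.subset_closure ⟨CfsgLib.M23.toFi22_perp hperp,
      Subgroup.mem_map_of_mem _ (Subgroup.mem_subgroupOf.mpr (baseSub_le hb))⟩, rfl⟩

/-- the members of a set of 3-transpositions in a 2-subgroup generate its Thompson subgroup, if they generate the
only elementary abelian subgroup of largest order -/
theorem closure_eq_thompson {G : Type*} [Group G] {D : Set G} (hS : Cfsg.IsThreeTranspositionSet D)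
    {T E : Subgroup G} (hT : IsPGroup 2 T) (hET : E ≤ T) (hEe : Cfsg.IsElementaryAbelian 2 E)
    (hmax : ∀ A : Subgroup G, A ≤ T → Cfsg.IsElementaryAbelian 2 A →
      Nat.card A ≤ Nat.card E ∧ (Nat.card A = Nat.card E → A = E))
    (hgen : E ≤ Subgroup.closure {x : G | x ∈ D ∧ x ∈ T}) [Finite G] :
    Subgroup.closure {x : G | x ∈ D ∧ x ∈ T} = Cfsg.thompsonSubgroupOf 2 T := by
  have hcomm : ∀ a ∈ {x : G | x ∈ D ∧ x ∈ T}, ∀ b ∈ {x : G | x ∈ D ∧ x ∈ T}, Commute a b := by
    intro a ha b hb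
    have ha2 : a * a = 1 := by rw [← pow_two, ← hS.1 a ha.1, pow_orderOf_eq_one]
    have hb2 : b * b = 1 := by rw [← pow_two, ← hS.1 b hb.1, pow_orderOf_eq_one]
    rcases hS.2 a ha.1 b hb.1 with h | h
    · rw [pow_two] at h
      show a * b = b * a
      calc a * b = (a * b)⁻¹ := (inv_eq_of_mul_eq_one_right h).symm
        _ = b * a := by rw [mul_inv_rev, inv_eq_of_mul_eq_one_right ha2, inv_eq_of_mul_eq_one_right hb2]
    · obtain ⟨k, hk⟩ := hT ⟨a * b, T.mul_mem ha.2 hb.2⟩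
      have hk' : (a * b) ^ 2 ^ k = 1 := congrArg Subtype.val hk
      have h1 : orderOf (a * b) ∣ Nat.gcd (2 ^ k) 3 :=
        Nat.dvd_gcd (orderOf_dvd_of_pow_eq_one hk') (orderOf_dvd_of_pow_eq_one h)
      have : orderOf (a * b) = 1 := by
        rw [Nat.Coprime.gcd_eq_one (Nat.Coprime.pow_left k (by norm_num))] at h1
        exact Nat.dvd_one.mp h1
      rw [orderOf_eq_one_iff] at this
      rw [eq_inv_of_mul_eq_one_left this]
      exact (Commute.refl b).inv_left
  set F := Subgroup.closure {x : G | x ∈ D ∧ x ∈ T} with hF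
  have hFc : ∀ x ∈ F, ∀ y ∈ F, Commute x y := fun x hx y hy => by
    induction hx, hy using Subgroup.closure_induction₂ with
    | mem x y hx hy => exact hcomm x hx y hy
    | one_left => exact Commute.one_left _
    | one_right => exact Commute.one_right _
    | mul_left _ _ _ _ _ _ h₁ h₂ => exact h₁.mul_left h₂
    | mul_right _ _ _ _ _ _ h₁ h₂ => exact h₁.mul_right h₂
    | inv_left _ _ _ _ h => exact h.inv_left
    | inv_right _ _ _ _ h => exact h.inv_right
  have hFe : Cfsg.IsElementaryAbelian 2 F := by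
    refine ⟨⟨⟨fun x y => Subtype.ext (hFc x x.2 y y.2)⟩⟩, fun x hx => ?_⟩
    induction hx using Subgroup.closure_induction with
    | mem x hx => rw [← hS.1 x hx.1, pow_orderOf_eq_one]
    | one => exact one_pow 2
    | mul a b ha hb iha ihb => rw [(hFc a ha b hb).mul_pow, iha, ihb, one_mul]
    | inv a _ iha => rw [inv_pow, iha, inv_one]
  have hFT : F ≤ T := (Subgroup.closure_le _).mpr fun x hx => hx.2
  obtain ⟨h1, h2⟩ := hmax F hFT hFe
  have hFE : F = E := h2 (le_antisymm h1 (Subgroup.card_le_of_le hgen))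
  rw [hFE, Cfsg.thompsonSubgroupOf, Cfsg.thompsonSubgroup]
  have hsub : ∀ A : Subgroup T, Cfsg.IsElementaryAbelian 2 A → Cfsg.IsElementaryAbelian 2 (A.map T.subtype) ∧
      Nat.card (A.map T.subtype) = Nat.card A := fun A hA => by
    refine ⟨⟨⟨⟨?_⟩⟩, ?_⟩, (Nat.card_congr (A.equivMapOfInjective _ T.subtype_injective).toEquiv).symm⟩
    · rintro ⟨x, hx⟩ ⟨y, hy⟩
      obtain ⟨a, ha, rfl⟩ := Subgroup.mem_map.mp hx
      obtain ⟨b, hb, rfl⟩ := Subgroup.mem_map.mp hy
      exact Subtype.ext (congrArg T.subtype (congrArg Subtype.val (hA.1.is_comm.comm (⟨a, ha⟩ : A) ⟨b, hb⟩)))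
    · intro x hx
      obtain ⟨a, ha, rfl⟩ := Subgroup.mem_map.mp hx
      rw [← map_pow, hA.2 a ha, map_one]
  have hE' : E.subgroupOf T ∈ Cfsg.maxElementaryAbelianSubgroups 2 T := by
    have hcE : Nat.card (E.subgroupOf T) = Nat.card E := Nat.card_congr (Subgroup.subgroupOfEquivOfLe hET).toEquiv
    refine ⟨⟨⟨⟨fun x y => ?_⟩⟩, fun x hx => ?_⟩, fun B hB => ?_⟩
    · exact Subtype.ext (Subtype.ext
        (congrArg Subtype.val (hEe.1.is_comm.comm (⟨_, x.2⟩ : E) ⟨_, y.2⟩) :))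
    · exact Subtype.ext (hEe.2 _ (Subgroup.mem_subgroupOf.mp hx))
    · obtain ⟨hBe, hBc⟩ := hsub B hB
      rw [hcE, ← hBc]
      exact (hmax _ (Subgroup.map_subtype_le B) hBe).1
  have hs : sSup (Cfsg.maxElementaryAbelianSubgroups 2 T) = E.subgroupOf T := by
    refine le_antisymm (sSup_le fun A hA => ?_) (le_sSup hE')
    obtain ⟨hAe, hAc⟩ := hsub A hA.1
    obtain ⟨g1, g2⟩ := hmax _ (Subgroup.map_subtype_le A) hAe
    have hge := hA.2 _ hE'.1
    rw [Nat.card_congr (Subgroup.subgroupOfEquivOfLe hET).toEquiv] at hge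
    rw [← g2 (by omega)]
    exact Subgroup.le_comap_map _ _
  rw [hs, Subgroup.map_subgroupOf_eq_of_le hET]

theorem thompson_of_iso {G : Type*} [Group G] [Finite G] (φ : Fi22 ≃* G) {D : Set G}
    (hS : Cfsg.IsThreeTranspositionSet D) (hD : φ '' Fi22USix.transClass = D) :
    Subgroup.closure {x : G | x ∈ D ∧ x ∈ (img sylowSub).map φ.toMonoidHom} =
      Cfsg.thompsonSubgroupOf 2 ((img sylowSub).map φ.toMonoidHom) := by
  have hinj : Function.Injective φ.toMonoidHom := φ.injective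
  have hcard : ∀ H : Subgroup Fi22, Nat.card (H.map φ.toMonoidHom) = Nat.card H := fun H =>
    (Nat.card_congr (H.equivMapOfInjective _ hinj).toEquiv).symm
  refine closure_eq_thompson hS (E := (img baseSub).map φ.toMonoidHom)
    ((IsPGroup.of_card (n := 17) img_sylow_card).map _) (Subgroup.map_mono img_base_le) ⟨⟨⟨?_⟩⟩, ?_⟩ ?_ ?_
  · rintro ⟨x, hx⟩ ⟨y, hy⟩
    obtain ⟨a, ha, rfl⟩ := Subgroup.mem_map.mp hx
    obtain ⟨b, hb, rfl⟩ := Subgroup.mem_map.mp hy
    refine Subtype.ext ?_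
    show φ.toMonoidHom a * φ.toMonoidHom b = φ.toMonoidHom b * φ.toMonoidHom a
    rw [← map_mul, ← map_mul]
    exact congrArg φ.toMonoidHom (congrArg Subtype.val (img_base_elem.1.is_comm.comm (⟨a, ha⟩ : img baseSub) ⟨b, hb⟩) :)
  · intro x hx
    obtain ⟨a, ha, rfl⟩ := Subgroup.mem_map.mp hx
    rw [← map_pow, img_base_elem.2 a ha, map_one]
  · intro A hA hAe
    have hsurj : Function.Surjective φ.toMonoidHom := φ.surjective
    have hm : (A.comap φ.toMonoidHom).map φ.toMonoidHom = A := Subgroup.map_comap_eq_self_of_surjective hsurj A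
    obtain ⟨h1, h2⟩ := img_elem_le (A := A.comap φ.toMonoidHom)
      (fun x hx => (Subgroup.mem_map_iff_mem hinj).mp (hA hx))
      ⟨⟨⟨fun x y => Subtype.ext (hinj (by
          simp only [Subgroup.coe_mul, map_mul]
          exact congrArg Subtype.val (hAe.1.is_comm.comm (⟨_, x.2⟩ : A) ⟨_, y.2⟩)))⟩⟩,
        fun x hx => hinj (by rw [map_pow, hAe.2 _ hx, map_one])⟩
    rw [← hcard (A.comap φ.toMonoidHom), hm] at h1 h2
    rw [hcard, img_base_card]
    exact ⟨h1, fun h => by rw [← hm, h2 h]⟩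
  · refine (Subgroup.map_mono base_le_closure).trans ?_
    rw [MonoidHom.map_closure, Subgroup.closure_le]
    rintro - ⟨x, ⟨hx1, hx2⟩, rfl⟩
    exact Subgroup.subset_closure ⟨hD ▸ ⟨x, hx1, rfl⟩, Subgroup.mem_map_of_mem _ hx2⟩

end CfsgLib.Fi22Syl
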