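import Cfsg.Agent.Lib.Fi22Syl.Data
import Cfsg.Agent.Lib.Fi23Syl.CheckWords
import Cfsg.Agent.Lib.Fi23Pres.OutData

/-!
Checks on the residues of a Sylow 2-subgroup of Fi23 modulo a transposition of its centre.
-/

set_option autoImplicit false

namespace CfsgLib.Fi22Syl

open CfsgLib.CosetEnum CfsgLib.Fi23Syl

/-- the vector of the fixed transposition -/
def zVec : ℕ := 638

/-- an involutory residue -/
noncomputable def qc (i : ℕ) : ℕ := nth qCand i 128

/-- trivial, involutory, or witnessed not to be involutory -/
noncomputable def qKindOK (e : ℕ) : Bool :=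
  match qKinds.getD e (3, 0) with
  | (0, u) => Nat.blt u 2048 && !(Nat.beq (act e (act e u)) u)
  | (1, i) => Nat.blt i 35 && Nat.beq (qc i) e
  | (2, _) => Nat.beq e 0
  | _ => false

/-- displacements of combinations of four vectors differ modulo the fixed transposition -/
noncomputable def qFourOK (i : ℕ) : Bool :=
  allBelow 16 fun c => allBelow c fun d =>
    !(Nat.beq (disp (qc i) (comb (nthWord qFour i) c)) (disp (qc i) (comb (nthWord qFour i) d))) &&
    !(Nat.beq (disp (qc i) (comb (nthWord qFour i) c) ^^^ disp (qc i) (comb (nthWord qFour i) d)) zVec)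

/-- a vector almost fixed by one residue and not by another -/
noncomputable def qSepOK (i j : ℕ) : Bool :=
  Nat.beq i j || (Nat.blt (nth (nthWord qSep i) j 0) 2048 &&
    (Nat.beq (disp (qc i) (nth (nthWord qSep i) j 0)) 0 || Nat.beq (disp (qc i) (nth (nthWord qSep i) j 0)) zVec) &&
    !(Nat.beq (disp (qc j) (nth (nthWord qSep i) j 0)) 0) && !(Nat.beq (disp (qc j) (nth (nthWord qSep i) j 0)) zVec))

/-- a pair of involutory residues which do not commute -/
noncomputable def qPairOK (p : ℕ × ℕ × ℕ) : Bool :=
  Nat.blt p.1 35 && Nat.blt p.2.1 35 && Nat.blt p.2.2 2048 &&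
    !(Nat.beq (act (qc p.1) (act (qc p.2.1) p.2.2)) (act (qc p.2.1) (act (qc p.1) p.2.2)))

theorem qKind_ok : allBelow 128 qKindOK = true := by decide +kernel
theorem qFour_ok : allBelow 35 qFourOK = true := by decide +kernel
theorem qFour_lt : allBelow 35 (fun i => allBelow 4 fun k =>
    Nat.blt (nth (nthWord qFour i) k 0) 2048) = true := by decide +kernel
theorem qSep_ok : allBelow 35 (fun i => allBelow 35 fun j => qSepOK i j) = true := by decide +kernel
theorem qPair_ok : qPairs.all qPairOK = true := by decide +kernel
theorem qPair_disjoint : (qPairs.flatMap fun p => [p.1, p.2.1]).Nodup ∧ qPairs.length = 5 := by decide +kernel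
theorem qCand_nodup : noDup qCand = true := by decide +kernel
theorem qCand_len : qCand.length = 35 := by decide +kernel
theorem z_word : same (aW zVec) CfsgLib.Fi23Pres.zWord = true := by decide +kernel
theorem z_fixed : allBelow 7 (fun k => Nat.beq (lin k zVec) zVec) = true := by decide +kernel

/-- a word is a palindrome around a letter below nine -/
noncomputable def midOK (w : List ℕ) : Bool :=
  decide (w = w.take (w.length / 2) ++ w.getD (w.length / 2) 9 :: (w.take (w.length / 2)).reverse) &&
    Nat.blt (w.getD (w.length / 2) 9) 9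

theorem basis_mid : allBelow 11 (fun k => midOK (bW k) && !(Nat.beq (2 ^ k) zVec)) = true := by decide +kernel

end CfsgLib.Fi22Syl
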